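import Cfsg.Agent.LThreeExt.Num
import Cfsg.Agent.CTFrame.Root
import Cfsg.Agent.Phan.Ext
import Cfsg.Agent.TwoFusion.SLTwoFacts
import Cfsg.Agent.LieClassical.SLGen
import Cfsg.Agent.ClassicalGeometry.PSL2Basic

/-!
# `SL(3, F)` is a `Tri`

`tri h : Tri (SL(3,F)) Fˣ` for `3 < |F|`, its numerical data (`numData`), and the lifting theorem
`exists_hom`: `π : J → PSL(3,F)` with central kernel of odd order whose primes divide `q - 1`, `J` perfect: there is
`φ : SL(3,F) → J` over `PSL(3,F)`.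
-/

set_option autoImplicit false
set_option linter.unusedSectionVars false

namespace Cfsg.Agent.LThreeExt.SL3

open Matrix Subgroup Cfsg.Agent.CTFrame.SL3
open scoped Pointwise

universe u

variable {F : Type u} [Field F]

/-- the block embedding -/
def bl (e : Fin 2 → Fin 3) (he : Function.Injective e) : SpecialLinearGroup (Fin 2) F →* S3 F where
  toFun g := ⟨Phan.extM e g.1, by rw [Phan.extM_det he, g.2]⟩
  map_one' := Subtype.ext (Phan.extM_one e)
  map_mul' g h := Subtype.ext (Phan.extM_mul he _ _)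

theorem bl_injective [Fintype F] {e : Fin 2 → Fin 3} (he : Function.Injective e) :
    Function.Injective (bl e he : SpecialLinearGroup (Fin 2) F →* S3 F) := by
  intro g h hgh
  exact Subtype.ext (Phan.extM_inj he (congrArg Subtype.val hgh))

theorem vec2_inj {a b : Fin 3} (hab : a ≠ b) : Function.Injective ![a, b] := by
  intro i j h
  fin_cases i <;> fin_cases j <;> simp_all

theorem bl_tr {a b : Fin 3} (hab : a ≠ b) {i j : Fin 2} (hij : i ≠ j) (hab' : ![a, b] i ≠ ![a, b] j) (s : F) :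
    bl ![a, b] (vec2_inj hab) (SpecialLinearGroup.transvection hij s) = SpecialLinearGroup.transvection hab' s := by
  apply Subtype.ext
  change Phan.extM ![a, b] (Matrix.transvection i j s) = Matrix.transvection _ _ s
  rw [Phan.extM, Matrix.transvection, Matrix.transvection]
  congr 1
  ext x y
  rw [add_sub_cancel_left, Matrix.mul_apply]
  simp only [Matrix.mul_apply, Phan.inc_apply, Matrix.transpose_apply, Matrix.single_apply, Fin.sum_univ_two]
  fin_cases i <;> fin_cases j <;> first | exact absurd rfl hij | skip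
  · rcases eq_or_ne x a with rfl | h1
    · rcases eq_or_ne y b with rfl | h2
      · simp
      · simp [h2, h2.symm]
    · rcases eq_or_ne y b with rfl | h2
      · simp [h1, h1.symm]
      · simp [h1, h1.symm, h2, h2.symm]
  · rcases eq_or_ne x b with rfl | h1
    · rcases eq_or_ne y a with rfl | h2
      · simp
      · simp [h2, h2.symm]
    · rcases eq_or_ne y a with rfl | h2
      · simp [h1, h1.symm]
      · simp [h1, h1.symm, h2, h2.symm]

theorem range_bl {a b : Fin 3} (hab : a ≠ b) :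
    (bl ![a, b] (vec2_inj hab) : SpecialLinearGroup (Fin 2) F →* S3 F).range = std a b := by
  apply le_antisymm
  · rw [MonoidHom.range_eq_map, ← LieClassical.SLGen.closure_transvections, MonoidHom.map_closure, closure_le]
    rintro _ ⟨_, ⟨i, j, hij, c, rfl⟩, rfl⟩
    fin_cases i <;> fin_cases j <;> first | exact absurd rfl hij | skip
    · have h1 : bl ![a, b] (vec2_inj hab) (SpecialLinearGroup.transvection hij c) =
          SpecialLinearGroup.transvection hab c := bl_tr hab (i := 0) (j := 1) (by decide) hab c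
      exact h1 ▸ X_le_std a b (tr_mem hab c)
    · have h1 : bl ![a, b] (vec2_inj hab) (SpecialLinearGroup.transvection hij c) =
          SpecialLinearGroup.transvection hab.symm c := bl_tr hab (i := 1) (j := 0) (by decide) hab.symm c
      exact h1 ▸ X_le_std' a b (tr_mem hab.symm c)
  · rw [std, X, X]
    refine sup_le ?_ ?_
    · rw [closure_le]
      rintro _ ⟨h, t, rfl⟩
      exact ⟨_, bl_tr hab (i := 0) (j := 1) (by decide) hab t⟩
    · rw [closure_le]
      rintro _ ⟨h, t, rfl⟩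
      exact ⟨_, bl_tr hab (i := 1) (j := 0) (by decide) hab.symm t⟩

theorem std_perfect [Fintype F] (h : 3 < Fintype.card F) {a b : Fin 3} (hab : a ≠ b) :
    ⁅(std a b : Subgroup (S3 F)), (std a b : Subgroup (S3 F))⁆ = std a b := by
  rw [← range_bl (F := F) hab, MonoidHom.range_eq_map, ← map_commutator, ← _root_.commutator_def,
    TwoFusion.SLTwoFacts.commutator_eq_top h]

theorem card_std [Fintype F] {a b : Fin 3} (hab : a ≠ b) :
    Nat.card (std a b : Subgroup (S3 F)) = Fintype.card F * (Fintype.card F ^ 2 - 1) := by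
  rw [← range_bl (F := F) hab, ← Nat.card_congr (MonoidHom.ofInjective (bl_injective (F := F) (vec2_inj hab))).toEquiv,
    ClassicalGeometry.PSL2Basic.card_SL2]

/-- torus of the first block -/
def tt2 (x : Fˣ) : SpecialLinearGroup (Fin 2) F := ⟨!![(x : F), 0; 0, ((x⁻¹ : Fˣ) : F)], by simp [Matrix.det_fin_two]⟩

def t2hom : Fˣ →* SpecialLinearGroup (Fin 2) F where
  toFun := tt2
  map_one' := by
    apply Subtype.ext
    ext i j
    fin_cases i <;> fin_cases j <;> simp [tt2]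
  map_mul' x y := by
    apply Subtype.ext
    change !![((x * y : Fˣ) : F), 0; 0, (((x * y)⁻¹ : Fˣ) : F)] =
      !![(x : F), 0; 0, ((x⁻¹ : Fˣ) : F)] * !![(y : F), 0; 0, ((y⁻¹ : Fˣ) : F)]
    ext i j
    fin_cases i <;> fin_cases j <;> simp [mul_comm]

/-- the pair of points different from `c` -/
def pr (c : Fin 3) : Fin 2 → Fin 3 := ![![1, 2], ![0, 2], ![0, 1]] c

theorem pr_inj (c : Fin 3) : Function.Injective (pr c) := by
  fin_cases c <;> decide

/-- the torus homomorphisms -/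
def tc (c : Fin 3) : Fˣ →* S3 F := (bl (pr c) (pr_inj c)).comp t2hom

def stdc (c : Fin 3) : Subgroup (S3 F) := (bl (pr c) (pr_inj c)).range

theorem stdc_zero : (stdc 0 : Subgroup (S3 F)) = std 1 2 := range_bl (by decide)
theorem stdc_one : (stdc 1 : Subgroup (S3 F)) = std 0 2 := range_bl (by decide)
theorem stdc_two : (stdc 2 : Subgroup (S3 F)) = std 0 1 := range_bl (by decide)

theorem tc_coe (c : Fin 3) (x : Fˣ) : ((tc c x : S3 F) : Matrix (Fin 3) (Fin 3) F) =
    Phan.extM (pr c) !![(x : F), 0; 0, ((x⁻¹ : Fˣ) : F)] := rfl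

theorem tc0_coe (x : Fˣ) : ((tc 0 x : S3 F) : Matrix (Fin 3) (Fin 3) F) =
    !![1, 0, 0; 0, (x : F), 0; 0, 0, ((x⁻¹ : Fˣ) : F)] := by
  rw [tc_coe]
  ext i j
  fin_cases i <;> fin_cases j <;>
    simp [Phan.extM, pr, Matrix.mul_apply, Phan.inc_apply, Fin.sum_univ_two, Matrix.one_apply]

theorem tc1_coe (x : Fˣ) : ((tc 1 x : S3 F) : Matrix (Fin 3) (Fin 3) F) =
    !![(x : F), 0, 0; 0, 1, 0; 0, 0, ((x⁻¹ : Fˣ) : F)] := by
  rw [tc_coe]
  ext i j
  fin_cases i <;> fin_cases j <;>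
    simp [Phan.extM, pr, Matrix.mul_apply, Phan.inc_apply, Fin.sum_univ_two, Matrix.one_apply]

theorem tc2_coe (x : Fˣ) : ((tc 2 x : S3 F) : Matrix (Fin 3) (Fin 3) F) =
    !![(x : F), 0, 0; 0, ((x⁻¹ : Fˣ) : F), 0; 0, 0, 1] := by
  rw [tc_coe]
  ext i j
  fin_cases i <;> fin_cases j <;>
    simp [Phan.extM, pr, Matrix.mul_apply, Phan.inc_apply, Fin.sum_univ_two, Matrix.one_apply]

/-- Weyl elements -/
def w2 : S3 F := ⟨!![0, 1, 0; -1, 0, 0; 0, 0, 1], by simp [Matrix.det_fin_three]⟩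
def w0 : S3 F := ⟨!![1, 0, 0; 0, 0, 1; 0, -1, 0], by simp [Matrix.det_fin_three]⟩

theorem w2_coe : ((w2 : S3 F) : Matrix (Fin 3) (Fin 3) F) = !![0, 1, 0; -1, 0, 0; 0, 0, 1] := rfl
theorem w0_coe : ((w0 : S3 F) : Matrix (Fin 3) (Fin 3) F) = !![1, 0, 0; 0, 0, 1; 0, -1, 0] := rfl

theorem extM_pr_entries (c : Fin 3) (A : Matrix (Fin 2) (Fin 2) F) (i j : Fin 2) :
    Phan.extM (pr c) A (pr c i) (pr c j) = A i j := by
  fin_cases c <;> fin_cases i <;> fin_cases j <;>
    simp [Phan.extM, pr, Matrix.mul_apply, Phan.inc_apply, Fin.sum_univ_two, Matrix.one_apply]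

theorem mem_stdc {c : Fin 3} {g : S3 F} : g ∈ (stdc c : Subgroup (S3 F)) ↔ g ∈ (Blk c : Subgroup (S3 F)) := by
  have hle : ∀ g, g ∈ (stdc c : Subgroup (S3 F)) → g ∈ (Blk c : Subgroup (S3 F)) := by
    intro g h
    fin_cases c
    · exact std_le_Blk (a := 1) (b := 2) (by decide) (by decide) (by decide) (by rw [← stdc_zero]; exact h)
    · exact std_le_Blk (a := 0) (b := 2) (by decide) (by decide) (by decide) (by rw [← stdc_one]; exact h)
    · exact std_le_Blk (a := 0) (b := 1) (by decide) (by decide) (by decide) (by rw [← stdc_two]; exact h)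
  refine ⟨hle g, fun h => ?_⟩
  have hab : pr c 0 ≠ pr c 1 := fun h => by
    have := pr_inj c h; exact absurd this (by decide)
  have hbc : pr c 1 ≠ c := by fin_cases c <;> decide
  have hac : pr c 0 ≠ c := by fin_cases c <;> decide
  obtain ⟨-, -, -, -, -, hd⟩ := blk_entries hab hbc hac h
  let A : SpecialLinearGroup (Fin 2) F :=
    ⟨!![en g (pr c 0) (pr c 0), en g (pr c 0) (pr c 1); en g (pr c 1) (pr c 0), en g (pr c 1) (pr c 1)], by
      rw [Matrix.det_fin_two_of]; exact hd⟩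
  have hA : bl (pr c) (pr_inj c) A ∈ (stdc c : Subgroup (S3 F)) := ⟨A, rfl⟩
  have he : ∀ i j, en (bl (pr c) (pr_inj c) A) (pr c i) (pr c j) = A.1 i j := fun i j => extM_pr_entries c A.1 i j
  have : g = bl (pr c) (pr_inj c) A := by
    refine blk_ext hab hbc hac h (hle _ hA) ?_ ?_ ?_ ?_
    · rw [he]; rfl
    · rw [he]; rfl
    · rw [he]; rfl
    · rw [he]; rfl
  rw [this]; exact hA

theorem mem_stdc' {c : Fin 3} {g : S3 F} : g ∈ (stdc c : Subgroup (S3 F)) ↔
    ∀ i, g.1 i c = (if i = c then 1 else 0) ∧ g.1 c i = (if i = c then 1 else 0) := mem_stdc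

theorem conj_w2 (g : S3 F) : ((w2 * g * w2⁻¹ : S3 F) : Matrix (Fin 3) (Fin 3) F) =
    !![g.1 1 1, -g.1 1 0, g.1 1 2; -g.1 0 1, g.1 0 0, -g.1 0 2; g.1 2 1, -g.1 2 0, g.1 2 2] := by
  have hinv : (w2⁻¹ : S3 F) = ⟨!![0, -1, 0; 1, 0, 0; 0, 0, 1], by simp [Matrix.det_fin_three]⟩ := by
    apply inv_eq_of_mul_eq_one_right
    apply Subtype.ext
    change (!![0, 1, 0; -1, 0, 0; 0, 0, 1] : Matrix (Fin 3) (Fin 3) F) * !![0, -1, 0; 1, 0, 0; 0, 0, 1] = 1
    ext i j
    fin_cases i <;> fin_cases j <;> simp [Matrix.mul_apply, Fin.sum_univ_three]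
  rw [hinv]
  change (!![0, 1, 0; -1, 0, 0; 0, 0, 1] : Matrix (Fin 3) (Fin 3) F) * g.1 * !![0, -1, 0; 1, 0, 0; 0, 0, 1] = _
  ext i j
  simp only [Matrix.mul_apply, Fin.sum_univ_three]
  fin_cases i <;> fin_cases j <;> simp

theorem conj_w0 (g : S3 F) : ((w0 * g * w0⁻¹ : S3 F) : Matrix (Fin 3) (Fin 3) F) =
    !![g.1 0 0, g.1 0 2, -g.1 0 1; g.1 2 0, g.1 2 2, -g.1 2 1; -g.1 1 0, -g.1 1 2, g.1 1 1] := by
  have hinv : (w0⁻¹ : S3 F) = ⟨!![1, 0, 0; 0, 0, -1; 0, 1, 0], by simp [Matrix.det_fin_three]⟩ := by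
    apply inv_eq_of_mul_eq_one_right
    apply Subtype.ext
    change (!![1, 0, 0; 0, 0, 1; 0, -1, 0] : Matrix (Fin 3) (Fin 3) F) * !![1, 0, 0; 0, 0, -1; 0, 1, 0] = 1
    ext i j
    fin_cases i <;> fin_cases j <;> simp [Matrix.mul_apply, Fin.sum_univ_three]
  rw [hinv]
  change (!![1, 0, 0; 0, 0, 1; 0, -1, 0] : Matrix (Fin 3) (Fin 3) F) * g.1 * !![1, 0, 0; 0, 0, -1; 0, 1, 0] = _
  ext i j
  simp only [Matrix.mul_apply, Fin.sum_univ_three]
  fin_cases i <;> fin_cases j <;> simp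

theorem map_conj {G : Type*} [Group G] {A B : Subgroup G} (w : G) (h : ∀ g, g ∈ A ↔ w * g * w⁻¹ ∈ B) :
    A.map (MulAut.conj w).toMonoidHom = B := by
  ext x
  constructor
  · rintro ⟨y, hy, rfl⟩
    exact (h y).1 hy
  · intro hx
    refine ⟨w⁻¹ * x * w, (h _).2 ?_, ?_⟩
    · have : w * (w⁻¹ * x * w) * w⁻¹ = x := by group
      rwa [this]
    · simp [MulAut.conj_apply, mul_assoc]

theorem w2_22 (g : S3 F) : g ∈ (stdc 2 : Subgroup (S3 F)) ↔ w2 * g * w2⁻¹ ∈ (stdc 2 : Subgroup (S3 F)) := by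
  rw [mem_stdc', mem_stdc', conj_w2]
  simp [Fin.forall_fin_succ]
  tauto

theorem w2_01 (g : S3 F) : g ∈ (stdc 0 : Subgroup (S3 F)) ↔ w2 * g * w2⁻¹ ∈ (stdc 1 : Subgroup (S3 F)) := by
  rw [mem_stdc', mem_stdc', conj_w2]
  simp [Fin.forall_fin_succ]
  tauto

theorem w2_10 (g : S3 F) : g ∈ (stdc 1 : Subgroup (S3 F)) ↔ w2 * g * w2⁻¹ ∈ (stdc 0 : Subgroup (S3 F)) := by
  rw [mem_stdc', mem_stdc', conj_w2]
  simp [Fin.forall_fin_succ]
  tauto

theorem w0_00 (g : S3 F) : g ∈ (stdc 0 : Subgroup (S3 F)) ↔ w0 * g * w0⁻¹ ∈ (stdc 0 : Subgroup (S3 F)) := by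
  rw [mem_stdc', mem_stdc', conj_w0]
  simp [Fin.forall_fin_succ]
  tauto

theorem w0_21 (g : S3 F) : g ∈ (stdc 2 : Subgroup (S3 F)) ↔ w0 * g * w0⁻¹ ∈ (stdc 1 : Subgroup (S3 F)) := by
  rw [mem_stdc', mem_stdc', conj_w0]
  simp [Fin.forall_fin_succ]
  tauto

/-- **`SL(3, F)` is a `Tri`.** -/
def tri [Fintype F] (h : 3 < Fintype.card F) : Tri (S3 F) Fˣ where
  std := stdc
  perf c := by
    rw [stdc, MonoidHom.range_eq_map, ← map_commutator, ← _root_.commutator_def,
      TwoFusion.SLTwoFacts.commutator_eq_top h]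
  t := tc
  t_mem c a := ⟨_, rfl⟩
  tt a b hab := by
    have h1 := congrArg Subtype.val hab
    change (tc 2 a : S3 F).1 * (tc 0 b : S3 F).1 = 1 at h1
    rw [tc2_coe, tc0_coe] at h1
    have h2 := congrFun (congrFun h1 0) 0
    have h3 := congrFun (congrFun h1 2) 2
    simp [Matrix.mul_apply, Fin.sum_univ_three] at h2 h3
    exact ⟨h2, h3⟩
  t_mul a := by
    apply Subtype.ext
    change (tc 1 a : S3 F).1 = (tc 2 a : S3 F).1 * (tc 0 a : S3 F).1
    rw [tc2_coe, tc0_coe, tc1_coe]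
    ext i j
    fin_cases i <;> fin_cases j <;> simp [Matrix.mul_apply, Fin.sum_univ_three]
  n2 := w2
  n0 := w0
  n2_std2 := map_conj _ w2_22
  n2_std0 := map_conj _ w2_01
  n2_std1 := map_conj _ w2_10
  n0_std0 := map_conj _ w0_00
  n0_std2 := map_conj _ w0_21
  n2_t2 a := by
    apply Subtype.ext
    rw [conj_w2, tc2_coe, tc2_coe]
    ext i j
    fin_cases i <;> fin_cases j <;> simp
  n2_t0 a := by
    apply Subtype.ext
    rw [conj_w2, tc0_coe, tc1_coe]
    ext i j
    fin_cases i <;> fin_cases j <;> simp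
  n2_t1 a := by
    apply Subtype.ext
    rw [conj_w2, tc0_coe, tc1_coe]
    ext i j
    fin_cases i <;> fin_cases j <;> simp
  n0_t0 a := by
    apply Subtype.ext
    rw [conj_w0, tc0_coe, tc0_coe]
    ext i j
    fin_cases i <;> fin_cases j <;> simp
  n0_t2 a := by
    apply Subtype.ext
    rw [conj_w0, tc2_coe, tc1_coe]
    ext i j
    fin_cases i <;> fin_cases j <;> simp

theorem tri_n2 [Fintype F] (h : 3 < Fintype.card F) : (tri h).n2 = (w2 : S3 F) := rfl
theorem tri_n0 [Fintype F] (h : 3 < Fintype.card F) : (tri h).n0 = (w0 : S3 F) := rfl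
theorem tri_std [Fintype F] (h : 3 < Fintype.card F) (c : Fin 3) : (tri h).std c = (stdc c : Subgroup (S3 F)) := rfl

theorem sigma_coe : ((w2 * w0 : S3 F) : Matrix (Fin 3) (Fin 3) F) = !![0, 0, 1; -1, 0, 0; 0, -1, 0] := by
  change (!![0, 1, 0; -1, 0, 0; 0, 0, 1] : Matrix (Fin 3) (Fin 3) F) * !![1, 0, 0; 0, 0, 1; 0, -1, 0] = _
  ext i j
  simp only [Matrix.mul_apply, Fin.sum_univ_three]
  fin_cases i <;> fin_cases j <;> simp

theorem sigma_cube : (w2 * w0 : S3 F) ^ 3 = 1 := by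
  apply Subtype.ext
  rw [pow_succ, pow_two]
  change ((w2 * w0 : S3 F) : Matrix (Fin 3) (Fin 3) F) * ((w2 * w0 : S3 F) : Matrix (Fin 3) (Fin 3) F) *
    ((w2 * w0 : S3 F) : Matrix (Fin 3) (Fin 3) F) = 1
  rw [sigma_coe]
  ext i j
  simp only [Matrix.mul_apply, Fin.sum_univ_three]
  fin_cases i <;> fin_cases j <;> simp

theorem sigma_notMem [Fintype F] (h : 3 < Fintype.card F) : (w2 * w0 : S3 F) ∉ (tri (F := F) h).tor.range := by
  rintro ⟨⟨a, b⟩, e⟩
  have h1 : (tc 2 a * tc 0 b : S3 F) = w2 * w0 := e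
  have h2 := congrArg Subtype.val h1
  change (tc 2 a : S3 F).1 * (tc 0 b : S3 F).1 = ((w2 * w0 : S3 F) : Matrix (Fin 3) (Fin 3) F) at h2
  rw [tc2_coe, tc0_coe, sigma_coe] at h2
  have h3 := congrFun (congrFun h2 0) 2
  simp [Matrix.mul_apply, Fin.sum_univ_three] at h3

theorem tc_injective [Fintype F] (c : Fin 3) : Function.Injective (tc c : Fˣ →* S3 F) := by
  intro x y h
  have h1 := bl_injective (F := F) (pr_inj c) h
  have h2 := congrArg (fun g : SpecialLinearGroup (Fin 2) F => g.1 0 0) h1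
  exact Units.ext h2

theorem card_stdc [Fintype F] (c : Fin 3) :
    Nat.card (stdc c : Subgroup (S3 F)) = Fintype.card F * (Fintype.card F ^ 2 - 1) := by
  rw [stdc, ← Nat.card_congr (MonoidHom.ofInjective (bl_injective (F := F) (pr_inj c))).toEquiv,
    ClassicalGeometry.PSL2Basic.card_SL2]

theorem card_S3 [Fintype F] : Nat.card (S3 F) =
    Fintype.card F ^ 3 * (Fintype.card F ^ 2 - 1) * (Fintype.card F ^ 3 - 1) := by
  have h := ClassicalGeometry.PSL2Basic.card_SL_mul (Fin 3) F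
  rw [Matrix.card_GL_field, Fin.prod_univ_three] at h
  set q := Fintype.card F with hq
  have hq1 : 1 < q := Fintype.one_lt_card
  obtain ⟨k, hk⟩ : ∃ k, q = k + 2 := ⟨q - 2, by omega⟩
  have h0 : 0 < q - 1 := by omega
  apply Nat.eq_of_mul_eq_mul_right h0
  rw [h]
  simp only [Fin.val_zero, Fin.val_one, Fin.val_two, pow_zero, pow_one]
  have e1 : q ^ 3 - q = q * (q ^ 2 - 1) := by
    rw [Nat.mul_sub, mul_one]; congr 1; ring
  have e2 : q ^ 3 - q ^ 2 = q ^ 2 * (q - 1) := by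
    rw [Nat.mul_sub, mul_one]; congr 1
  rw [e1, e2]; ring

theorem numData [Fintype F] (h : 3 < Fintype.card F) : (tri (F := F) h).NumData (Fintype.card F) 1 where
  sign := Or.inl rfl
  cardC := by
    classical
    rw [Nat.card_eq_fintype_card, Fintype.card_units, Nat.cast_sub (by omega)]; simp
  pos := by
    have : (3 : ℤ) < (Fintype.card F : ℤ) := by exact_mod_cast h
    linarith
  cardStd c := by
    rw [tri_std, card_stdc]
    have h1 : 1 ≤ Fintype.card F ^ 2 := Nat.one_le_pow _ _ (by omega)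
    push_cast [Nat.cast_sub h1]
    ring
  cardS := by
    rw [card_S3]
    have h1 : 1 ≤ Fintype.card F ^ 2 := Nat.one_le_pow _ _ (by omega)
    have h2 : 1 ≤ Fintype.card F ^ 3 := Nat.one_le_pow _ _ (by omega)
    push_cast [Nat.cast_sub h1, Nat.cast_sub h2]
    ring
  inj := tc_injective
  s3 := sigma_cube
  sn := sigma_notMem h

/-- **Lifting theorem for `SL(3,F)`.** `π : J → PSL(3,F)` surjective with central kernel all of whose prime divisors are odd
divisors of `q - 1`, `J` perfect: there is a surjective `φ : SL(3,F) → J` over `PSL(3,F)`, and it maps the standard `SL₂`'s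
onto their perfect lifts. -/
theorem exists_hom [Fintype F] (h : 3 < Fintype.card F) {J : Type*} [Group J] [Finite J]
    (π : J →* ProjectiveSpecialLinearGroup (Fin 3) F) (hπ : Function.Surjective π)
    (hkπ : π.ker ≤ center J) (hJ : commutator J = ⊤)
    (hr : ∀ r : ℕ, r.Prime → r ∣ Nat.card π.ker → r ≠ 2 ∧ r ∣ Fintype.card F - 1) :
    ∃ φ : S3 F →* J, Function.Surjective φ ∧ (∀ g, π (φ g) = QuotientGroup.mk g) ∧ φ.ker ≤ center (S3 F) ∧
      ∀ a b : Fin 3, a ≠ b → ∀ A : Subgroup J, ⁅A, A⁆ = A →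
        A.map π = (std a b : Subgroup (S3 F)).map (QuotientGroup.mk' (center (S3 F))) → (std a b).map φ = A := by
  have : IsCyclic Fˣ := inferInstance
  obtain ⟨φ, h1, h2, h3⟩ := (numData (F := F) h).exists_hom π (QuotientGroup.mk' (center (S3 F))) hπ
    (QuotientGroup.mk'_surjective _) hkπ hJ (LieClassical.SLGen.commutator_eq_top (by simp))
    (fun r hp hd => ⟨(hr r hp hd).1, by
      have h5 := (hr r hp hd).2
      have h6 : ((r : ℕ) : ℤ) ∣ ((Fintype.card F - 1 : ℕ) : ℤ) := by exact_mod_cast h5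
      rw [Nat.cast_sub (by omega)] at h6
      simpa using h6⟩)
  have h2' : ∀ g, π (φ g) = QuotientGroup.mk g := fun g => DFunLike.congr_fun h2 g
  refine ⟨φ, h1, h2', ?_, ?_⟩
  · intro g hg
    have h4 := h2' g
    rw [MonoidHom.mem_ker.1 hg, map_one] at h4
    exact (QuotientGroup.eq_one_iff g).1 h4.symm
  · intro a b hab A hA hAm
    have key : ∀ c : Fin 3, (std a b : Subgroup (S3 F)) = stdc c → (std a b : Subgroup (S3 F)).map φ = A := by
      intro c hc
      rw [hc]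
      exact h3 c A hA (by rw [hAm, hc]; rfl)
    fin_cases a <;> fin_cases b <;> first | exact absurd rfl hab | skip
    · exact key 2 stdc_two.symm
    · exact key 1 stdc_one.symm
    · exact key 2 ((std_symm 1 0).trans stdc_two.symm)
    · exact key 0 stdc_zero.symm
    · exact key 1 ((std_symm 2 0).trans stdc_one.symm)
    · exact key 0 ((std_symm 2 1).trans stdc_zero.symm)

end Cfsg.Agent.LThreeExt.SL3
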