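import Mathlib

/-!
# Central extensions and the transfer

* `ker_eq_bot`: `p : E → S` surjective, `E` finite perfect, `ker p` central, `H ≤ S` of index prime to `|ker p|`,
  `T'` a subgroup with `[p⁻¹H, p⁻¹H] ≤ T'` and `T' ∩ ker p = 1`: then `ker p = 1`.
* `lift`: the perfect lift `⁅p⁻¹B, p⁻¹B⁆` of a perfect subgroup `B ≤ S`.
* `Tri`: three perfect subgroups of `S` with a torus (the three standard `SL₂`'s of `SL₃` or `SU₃`);
  `Tri.ker_eq_bot`: a perfect central extension of `S` of the right kernel order is an isomorphism.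
* `exists_hom`: for `π : J → P`, `ρ : S → P` central extensions of `P`, `J` and `S` perfect, such that every perfect
  central extension of `S` with kernel order dividing `|ker π|` splits: `∃ φ : S → J` over `P`, surjective.
-/

set_option autoImplicit false

namespace Cfsg.Agent.LThreeExt

open Subgroup
open scoped Pointwise commutatorElement

section Transfer

variable {E S : Type*} [Group E] [Group S]

/-- In a perfect finite group every power `x ^ [E : H]` of a central element lies in `H'`. -/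
theorem pow_index_mem [Finite E] (hE : commutator E = ⊤) (H : Subgroup E) {x : E} (hx : x ∈ center E) :
    x ^ H.index ∈ ⁅H, H⁆ := by
  have key : ∀ (k : ℕ) (g₀ : E), g₀⁻¹ * x ^ k * g₀ ∈ H → g₀⁻¹ * x ^ k * g₀ = x ^ k := by
    intro k g₀ _
    have h1 : x ^ k ∈ center E := pow_mem hx k
    have h2 := (mem_center_iff.1 h1) g₀⁻¹
    rw [h2]
    group
  have h1 : MonoidHom.transfer (Abelianization.of : H →* Abelianization H) x = 1 := by
    have h2 : commutator E ≤ (MonoidHom.transfer (Abelianization.of : H →* Abelianization H)).ker :=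
      Abelianization.commutator_subset_ker _
    rw [hE] at h2
    exact h2 (mem_top x)
  rw [MonoidHom.transfer_eq_pow _ x key] at h1
  have h3 : (⟨x ^ H.index, MonoidHom.transfer_eq_pow_aux x key⟩ : H) ∈ commutator H :=
    (QuotientGroup.eq_one_iff _).1 h1
  have h4 : x ^ H.index ∈ (commutator H).map H.subtype := ⟨_, h3, rfl⟩
  rwa [commutator_def, map_commutator, ← MonoidHom.range_eq_map, range_subtype] at h4

theorem eq_one_of_pow {x : E} {n : ℕ} {X : Subgroup E} [Finite E] (hx : x ∈ X)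
    (hcop : ∀ r : ℕ, r.Prime → r ∣ Nat.card X → ¬ r ∣ n) (h : x ^ n = 1) : x = 1 := by
  have h1 : orderOf x ∣ n := orderOf_dvd_of_pow_eq_one h
  have h2 : orderOf x ∣ Nat.card X := X.orderOf_dvd_natCard hx
  by_contra hne
  have h3 : orderOf x ≠ 1 := fun h => hne (orderOf_eq_one_iff.1 h)
  obtain ⟨r, hr, hrd⟩ := Nat.exists_prime_and_dvd h3
  exact hcop r hr (hrd.trans h2) (hrd.trans h1)

theorem ker_eq_bot [Finite E] (p : E →* S) (hp : Function.Surjective p) (hE : commutator E = ⊤)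
    (hker : p.ker ≤ center E) (H : Subgroup S)
    (hcop : ∀ r : ℕ, r.Prime → r ∣ Nat.card p.ker → ¬ r ∣ H.index)
    (T' : Subgroup E) (hT : ⁅H.comap p, H.comap p⁆ ≤ T') (hTX : T' ⊓ p.ker = ⊥) : p.ker = ⊥ := by
  rw [eq_bot_iff]
  intro x hx
  have h1 := hT (pow_index_mem hE (H.comap p) (hker hx))
  rw [index_comap_of_surjective _ hp] at h1
  have h2 : x ^ H.index ∈ T' ⊓ p.ker := ⟨h1, pow_mem hx _⟩
  rw [hTX, mem_bot] at h2
  exact eq_one_of_pow hx hcop h2

end Transfer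

section Lift

variable {E S : Type*} [Group E] [Group S]

/-- The perfect lift of a perfect subgroup. -/
def lift (p : E →* S) (B : Subgroup S) : Subgroup E := ⁅B.comap p, B.comap p⁆

variable {p : E →* S}

theorem commutator_sup_central {A Z : Subgroup E} (hZ : Z ≤ center E) : ⁅A ⊔ Z, A ⊔ Z⁆ = ⁅A, A⁆ := by
  apply le_antisymm
  · have : Z.Normal := ⟨fun n hn g => by
      have h := (mem_center_iff.1 (hZ hn)) g
      rw [h]; simpa using hn⟩
    rw [commutator_le]
    intro g₁ h₁ g₂ h₂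
    obtain ⟨a₁, ha₁, z₁, hz₁, rfl⟩ := mem_sup_of_normal_right.1 h₁
    obtain ⟨a₂, ha₂, z₂, hz₂, rfl⟩ := mem_sup_of_normal_right.1 h₂
    have e1 := (mem_center_iff.1 (hZ hz₁))
    have e2 := (mem_center_iff.1 (hZ hz₂))
    have : ⁅a₁ * z₁, a₂ * z₂⁆ = ⁅a₁, a₂⁆ := by
      rw [commutatorElement_def, commutatorElement_def, mul_inv_rev, mul_inv_rev]
      have f1 : z₁ * (a₂ * z₂) = (a₂ * z₂) * z₁ := (e1 _).symm
      have f2 : z₂ * (a₁⁻¹) = a₁⁻¹ * z₂ := (e2 _).symm
      calc a₁ * z₁ * (a₂ * z₂) * (z₁⁻¹ * a₁⁻¹) * (z₂⁻¹ * a₂⁻¹)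
          = a₁ * (z₁ * (a₂ * z₂)) * (z₁⁻¹ * a₁⁻¹) * (z₂⁻¹ * a₂⁻¹) := by group
        _ = a₁ * (a₂ * z₂ * z₁) * (z₁⁻¹ * a₁⁻¹) * (z₂⁻¹ * a₂⁻¹) := by rw [f1]
        _ = a₁ * a₂ * (z₂ * a₁⁻¹) * (z₂⁻¹ * a₂⁻¹) := by group
        _ = a₁ * a₂ * (a₁⁻¹ * z₂) * (z₂⁻¹ * a₂⁻¹) := by rw [f2]
        _ = a₁ * a₂ * a₁⁻¹ * a₂⁻¹ := by group
    rw [this]
    exact commutator_mem_commutator ha₁ ha₂
  · exact commutator_mono le_sup_left le_sup_left

theorem map_lift (hp : Function.Surjective p) {B : Subgroup S} (hB : ⁅B, B⁆ = B) : (lift p B).map p = B := by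
  rw [lift, map_commutator, map_comap_eq_self_of_surjective hp, hB]

theorem lift_sup (hp : Function.Surjective p) {B : Subgroup S} (hB : ⁅B, B⁆ = B) :
    B.comap p = lift p B ⊔ p.ker := by
  rw [← comap_map_eq, map_lift hp hB]

theorem lift_perfect (hp : Function.Surjective p) (hker : p.ker ≤ center E) {B : Subgroup S} (hB : ⁅B, B⁆ = B) :
    ⁅lift p B, lift p B⁆ = lift p B := by
  conv_rhs => rw [lift, lift_sup hp hB, commutator_sup_central hker]

/-- uniqueness of the perfect lift -/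
theorem eq_lift (hker : p.ker ≤ center E) {A : Subgroup E} (hA : ⁅A, A⁆ = A) :
    A = lift p (A.map p) := by
  rw [lift, comap_map_eq, commutator_sup_central hker, hA]

theorem lift_conj (g : E) {B C : Subgroup S}
    (h : B.map (MulAut.conj (p g)).toMonoidHom = C) :
    (lift p B).map (MulAut.conj g).toMonoidHom = lift p C := by
  have h1 : (B.comap p).map (MulAut.conj g).toMonoidHom = C.comap p := by
    ext x
    constructor
    · rintro ⟨y, hy, rfl⟩
      rw [mem_comap, ← h]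
      refine ⟨p y, hy, ?_⟩
      simp [MulAut.conj_apply]
    · intro hx
      refine ⟨g⁻¹ * x * g, ?_, ?_⟩
      · rw [mem_comap, ← h] at hx
        obtain ⟨y, hy, e⟩ := hx
        have : p (g⁻¹ * x * g) = y := by
          rw [map_mul, map_mul, ← e, map_inv]
          simp [MulAut.conj_apply, mul_assoc]
        change p (g⁻¹ * x * g) ∈ B
        rw [this]; exact hy
      · simp [MulAut.conj_apply, mul_assoc]
  rw [lift, map_commutator, h1, lift]

theorem lift_le (B : Subgroup S) : lift p B ≤ B.comap p := commutator_le_self _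

/-- The perfect lift of `B` is isomorphic to `B` if `B` has a cyclic subgroup of index prime to `|ker p|`. -/
theorem lift_inj [Finite E] (hp : Function.Surjective p) (hker : p.ker ≤ center E) {B : Subgroup S}
    (hB : ⁅B, B⁆ = B) (T : Subgroup S) [IsCyclic T]
    (hcop : ∀ r : ℕ, r.Prime → r ∣ Nat.card p.ker → ¬ r ∣ T.relIndex B) :
    ∀ x ∈ lift p B, p x = 1 → x = 1 := by
  set L := lift p B with hL
  have hLm : L.map p = B := map_lift hp hB
  -- restricted hom
  let f : L →* B := (p.comp L.subtype).codRestrict B (fun x => by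
    rw [← hLm]; exact ⟨x, x.2, rfl⟩)
  have hf : Function.Surjective f := by
    rintro ⟨b, hb⟩
    rw [← hLm] at hb
    obtain ⟨x, hx, e⟩ := hb
    exact ⟨⟨x, hx⟩, Subtype.ext e⟩
  have hfv : ∀ x : L, ((f x : B) : S) = p x := fun x => rfl
  have hperf : commutator L = ⊤ := by
    have h1 : ((commutator L).map L.subtype) = L := by
      rw [commutator_def, map_commutator, ← MonoidHom.range_eq_map, range_subtype]
      exact lift_perfect hp hker hB
    apply map_injective L.subtype_injective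
    rw [h1, ← MonoidHom.range_eq_map, range_subtype]
  have hkf : f.ker ≤ center L := by
    intro x hx
    rw [mem_center_iff]
    intro g
    have h1 : (x : E) ∈ p.ker := by
      have := congrArg Subtype.val (MonoidHom.mem_ker.1 hx)
      exact this
    exact Subtype.ext (mem_center_iff.1 (hker h1) g)
  have hcard : Nat.card f.ker ∣ Nat.card p.ker := by
    let g : f.ker →* p.ker := ((L.subtype.comp f.ker.subtype).codRestrict p.ker (fun x => by
      have := congrArg Subtype.val (MonoidHom.mem_ker.1 x.2)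
      exact this))
    exact card_dvd_of_injective g (fun x y h => by
      have h1 := congrArg Subtype.val h
      exact Subtype.ext (Subtype.ext h1))
  have habel : ⁅(T.subgroupOf B).comap f, (T.subgroupOf B).comap f⁆ ≤ (⊥ : Subgroup L) := by
    rw [commutator_le]
    intro g₁ h₁ g₂ h₂
    -- the preimage of the cyclic `T`
    let D : Subgroup L := (T.subgroupOf B).comap f
    let k : D →* T := ((p.comp L.subtype).comp D.subtype).codRestrict T (fun x => x.2)
    have hk : k.ker ≤ center D := by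
      intro x hx
      rw [mem_center_iff]
      intro g
      have h1 : ((x : L) : E) ∈ p.ker := by
        have := congrArg Subtype.val (MonoidHom.mem_ker.1 hx)
        exact this
      exact Subtype.ext (Subtype.ext (mem_center_iff.1 (hker h1) _))
    have h3 := (MonoidHom.isMulCommutative_of_isCyclic_of_ker_le_center k hk).is_comm.comm (⟨g₁, h₁⟩ : D) ⟨g₂, h₂⟩
    have h4 : g₁ * g₂ = g₂ * g₁ := congrArg Subtype.val h3
    rw [mem_bot, commutatorElement_eq_one_iff_mul_comm]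
    exact h4
  have hbot := ker_eq_bot f hf hperf hkf (T.subgroupOf B)
    (fun r hr hrd hri => hcop r hr (hrd.trans hcard) hri) ⊥ habel (by simp)
  intro x hx h1
  have h2 : (⟨x, hx⟩ : L) ∈ f.ker := by
    rw [MonoidHom.mem_ker]; exact Subtype.ext h1
  rw [hbot, mem_bot] at h2
  exact congrArg Subtype.val h2

end Lift

/-! ### The three standard `SL₂`'s -/

/-- Three perfect subgroups of `S` (numbered by the missing point: `std 2 = SL₂` on points `0,1`, `std 0` on `1,2`, `std 1` on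
`0,2`) with a cyclic torus `C` and two Weyl elements. -/
structure Tri (S : Type*) [Group S] (C : Type*) [CommGroup C] where
  std : Fin 3 → Subgroup S
  perf : ∀ c, ⁅std c, std c⁆ = std c
  t : Fin 3 → C →* S
  t_mem : ∀ c a, t c a ∈ std c
  tt : ∀ a b, t 2 a * t 0 b = 1 → a = 1 ∧ b = 1
  t_mul : ∀ a, t 1 a = t 2 a * t 0 a
  n2 : S
  n0 : S
  n2_std2 : (std 2).map (MulAut.conj n2).toMonoidHom = std 2
  n2_std0 : (std 0).map (MulAut.conj n2).toMonoidHom = std 1
  n2_std1 : (std 1).map (MulAut.conj n2).toMonoidHom = std 0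
  n0_std0 : (std 0).map (MulAut.conj n0).toMonoidHom = std 0
  n0_std2 : (std 2).map (MulAut.conj n0).toMonoidHom = std 1
  n2_t2 : ∀ a, n2 * t 2 a * n2⁻¹ = t 2 a⁻¹
  n2_t0 : ∀ a, n2 * t 0 a * n2⁻¹ = t 1 a
  n2_t1 : ∀ a, n2 * t 1 a * n2⁻¹ = t 0 a
  n0_t0 : ∀ a, n0 * t 0 a * n0⁻¹ = t 0 a⁻¹
  n0_t2 : ∀ a, n0 * t 2 a * n0⁻¹ = t 1 a

namespace Tri

variable {E S C : Type*} [Group E] [Group S] [CommGroup C] (M : Tri S C)

/-- the torus -/
def tor : C × C →* S where
  toFun x := M.t 2 x.1 * M.t 0 x.2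
  map_one' := by simp
  map_mul' x y := by
    have h : ∀ a b, M.t 2 b * M.t 0 a = M.t 0 a * M.t 2 b := by
      intro a b
      have e1 := M.t_mul (a * b)
      rw [map_mul, map_mul, map_mul, M.t_mul, M.t_mul] at e1
      have e2 : M.t 0 a * M.t 2 b = M.t 2 b * M.t 0 a := by
        have e3 : M.t 2 a * (M.t 0 a * M.t 2 b) * M.t 0 b = M.t 2 a * (M.t 2 b * M.t 0 a) * M.t 0 b := by
          simpa only [mul_assoc] using e1
        exact mul_left_cancel (mul_right_cancel e3)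
      exact e2.symm
    simp only [Prod.fst_mul, Prod.snd_mul, map_mul]
    calc M.t 2 x.1 * M.t 2 y.1 * (M.t 0 x.2 * M.t 0 y.2)
        = M.t 2 x.1 * (M.t 2 y.1 * M.t 0 x.2) * M.t 0 y.2 := by simp only [mul_assoc]
      _ = M.t 2 x.1 * M.t 0 x.2 * (M.t 2 y.1 * M.t 0 y.2) := by rw [h]; simp only [mul_assoc]

theorem tor_inj : Function.Injective M.tor := by
  rw [injective_iff_map_eq_one]
  rintro ⟨a, b⟩ h
  obtain ⟨rfl, rfl⟩ := M.tt a b h
  rfl

/-- the torus normaliser -/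
def hsub : Subgroup S := M.tor.range ⊔ zpowers (M.n2 * M.n0)

/-- **A perfect central extension of `S` whose kernel has odd order prime to the two indices is an isomorphism.** -/
theorem ker_eq_bot [Finite E] [IsCyclic C] {p : E →* S} (hp : Function.Surjective p) (hE : commutator E = ⊤)
    (hker : p.ker ≤ center E)
    (hodd : ¬ 2 ∣ Nat.card p.ker)
    (hi1 : ∀ r : ℕ, r.Prime → r ∣ Nat.card p.ker → ∀ c, ¬ r ∣ (M.t c).range.relIndex (M.std c))
    (hi2 : ∀ r : ℕ, r.Prime → r ∣ Nat.card p.ker → ¬ r ∣ M.hsub.index) : p.ker = ⊥ := by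
  -- uniqueness in the lifts
  have hcyc : ∀ c, IsCyclic (M.t c).range := fun c =>
    isCyclic_of_surjective (M.t c).rangeRestrict (M.t c).rangeRestrict_surjective
  have hinj : ∀ c, ∀ x ∈ lift p (M.std c), ∀ y ∈ lift p (M.std c), p x = p y → x = y := by
    intro c x hx y hy hxy
    have := hcyc c
    have h := lift_inj hp hker (M.perf c) (M.t c).range (fun r hr hd => hi1 r hr hd c) (x * y⁻¹)
      (mul_mem hx (inv_mem hy)) (by rw [map_mul, map_inv, hxy, mul_inv_cancel])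
    exact mul_inv_eq_one.1 h
  have hex : ∀ c a, ∃ x ∈ lift p (M.std c), p x = M.t c a := by
    intro c a
    have h : M.t c a ∈ (lift p (M.std c)).map p := by
      rw [map_lift hp (M.perf c)]; exact M.t_mem c a
    exact h
  choose u hu hpu using hex
  -- conjugation
  have hconj : ∀ (g : E) (c d : Fin 3), (M.std c).map (MulAut.conj (p g)).toMonoidHom = M.std d →
      ∀ a b, p g * M.t c a * (p g)⁻¹ = M.t d b → g * u c a * g⁻¹ = u d b := by
    intro g c d h a b e
    apply hinj d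
    · rw [← lift_conj g h]
      exact ⟨u c a, hu c a, by simp [MulAut.conj_apply]⟩
    · exact hu d b
    · rw [map_mul, map_mul, map_inv, hpu, hpu, e]
  have hmul : ∀ c a b, u c (a * b) = u c a * u c b := fun c a b =>
    hinj c _ (hu c _) _ (mul_mem (hu c a) (hu c b)) (by rw [map_mul, hpu, hpu, hpu, map_mul])
  have hone : ∀ c, u c 1 = 1 := fun c => hinj c _ (hu c _) _ (one_mem _) (by rw [hpu, map_one, map_one])
  have hinv : ∀ c a, u c a⁻¹ = (u c a)⁻¹ := fun c a =>
    hinj c _ (hu c _) _ (inv_mem (hu c a)) (by rw [map_inv, hpu, hpu, map_inv])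
  obtain ⟨m2, hm2⟩ := hp M.n2
  obtain ⟨m0, hm0⟩ := hp M.n0
  have c22 : ∀ a, m2 * u 2 a * m2⁻¹ = (u 2 a)⁻¹ := fun a => by
    rw [← hinv]; exact hconj m2 2 2 (by rw [hm2]; exact M.n2_std2) _ _ (by rw [hm2]; exact M.n2_t2 a)
  have c20 : ∀ a, m2 * u 0 a * m2⁻¹ = u 1 a := fun a =>
    hconj m2 0 1 (by rw [hm2]; exact M.n2_std0) _ _ (by rw [hm2]; exact M.n2_t0 a)
  have c21 : ∀ a, m2 * u 1 a * m2⁻¹ = u 0 a := fun a =>
    hconj m2 1 0 (by rw [hm2]; exact M.n2_std1) _ _ (by rw [hm2]; exact M.n2_t1 a)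
  have c00 : ∀ a, m0 * u 0 a * m0⁻¹ = (u 0 a)⁻¹ := fun a => by
    rw [← hinv]; exact hconj m0 0 0 (by rw [hm0]; exact M.n0_std0) _ _ (by rw [hm0]; exact M.n0_t0 a)
  have c02 : ∀ a, m0 * u 2 a * m0⁻¹ = u 1 a := fun a =>
    hconj m0 2 1 (by rw [hm0]; exact M.n0_std2) _ _ (by rw [hm0]; exact M.n0_t2 a)
  -- the relation `u 1 a = u 2 a * u 0 a`
  have hrel : ∀ a, u 1 a = u 2 a * u 0 a := by
    intro a
    set d := (u 1 a)⁻¹ * u 2 a * u 0 a with hd
    have hdk : d ∈ p.ker := by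
      rw [MonoidHom.mem_ker, hd, map_mul, map_mul, map_inv, hpu, hpu, hpu, M.t_mul]
      group
    have hdc := mem_center_iff.1 (hker hdk)
    have h1 : m2 * d * m2⁻¹ = d := by rw [hdc m2]; group
    have h2 : m2 * d * m2⁻¹ = (u 0 a)⁻¹ * (u 2 a)⁻¹ * u 1 a := by
      have : m2 * d * m2⁻¹ = (m2 * u 1 a * m2⁻¹)⁻¹ * (m2 * u 2 a * m2⁻¹) * (m2 * u 0 a * m2⁻¹) := by
        rw [hd]; group
      rw [this, c21, c22, c20]
    have h3 : d = d⁻¹ := by
      have e : (u 0 a)⁻¹ * (u 2 a)⁻¹ * u 1 a = d⁻¹ := by rw [hd]; group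
      exact h1.symm.trans (h2.trans e)
    have h4 : d ^ 2 = 1 := by
      rw [pow_two]; nth_rewrite 2 [h3]; exact mul_inv_cancel d
    have h5 : d = 1 := by
      refine eq_one_of_pow hdk (n := 2) ?_ h4
      intro r hr hrd h2r
      have : r = 2 := (Nat.prime_dvd_prime_iff_eq hr Nat.prime_two).1 h2r
      subst this
      exact hodd hrd
    have h6 : (u 1 a)⁻¹ * (u 2 a * u 0 a) = 1 := by rw [← mul_assoc, ← hd, h5]
    exact (inv_mul_eq_one.1 h6)
  have hcomm : ∀ a b, u 0 a * u 2 b = u 2 b * u 0 a := by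
    intro a b
    have e1 := hrel (a * b)
    rw [hmul, hmul, hmul, hrel, hrel] at e1
    have e3 : u 2 a * (u 0 a * u 2 b) * u 0 b = u 2 a * (u 2 b * u 0 a) * u 0 b := by
      simpa only [mul_assoc] using e1
    exact mul_left_cancel (mul_right_cancel e3)
  -- the lifted torus
  let T' : Subgroup E :=
    { carrier := {x | ∃ a b, x = u 2 a * u 0 b}
      one_mem' := ⟨1, 1, by rw [hone, hone, one_mul]⟩
      mul_mem' := by
        rintro _ _ ⟨a, b, rfl⟩ ⟨a', b', rfl⟩
        refine ⟨a * a', b * b', ?_⟩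
        rw [hmul, hmul]
        calc u 2 a * u 0 b * (u 2 a' * u 0 b') = u 2 a * (u 0 b * u 2 a') * u 0 b' := by simp only [mul_assoc]
          _ = u 2 a * u 2 a' * (u 0 b * u 0 b') := by rw [hcomm]; simp only [mul_assoc]
      inv_mem' := by
        rintro _ ⟨a, b, rfl⟩
        refine ⟨a⁻¹, b⁻¹, ?_⟩
        rw [mul_inv_rev, hinv, hinv]
        have := hcomm b⁻¹ a⁻¹
        rw [hinv, hinv] at this
        exact this }
  have hT'mem : ∀ a b, u 2 a * u 0 b ∈ T' := fun a b => ⟨a, b, rfl⟩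
  have hTp : T'.map p = M.tor.range := by
    ext x
    constructor
    · rintro ⟨_, ⟨a, b, rfl⟩, rfl⟩
      exact ⟨(a, b), by rw [map_mul, hpu, hpu]; rfl⟩
    · rintro ⟨⟨a, b⟩, rfl⟩
      exact ⟨_, ⟨a, b, rfl⟩, by rw [map_mul, hpu, hpu]; rfl⟩
  have hTX : T' ⊓ p.ker = ⊥ := by
    rw [eq_bot_iff]
    rintro _ ⟨⟨a, b, rfl⟩, hx⟩
    have hx' : p (u 2 a * u 0 b) = 1 := hx
    rw [map_mul, hpu, hpu] at hx'
    obtain ⟨rfl, rfl⟩ := M.tt a b hx'
    rw [hone, hone, one_mul]; exact one_mem _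
  -- `m2`, `m0` normalise `T'`
  have hTm2 : ∀ x ∈ T', m2 * x * m2⁻¹ ∈ T' := by
    rintro _ ⟨a, b, rfl⟩
    have : m2 * (u 2 a * u 0 b) * m2⁻¹ = (m2 * u 2 a * m2⁻¹) * (m2 * u 0 b * m2⁻¹) := by group
    rw [this, c22, c20, hrel, ← hinv]
    exact ⟨a⁻¹ * b, b, by rw [hmul, mul_assoc]⟩
  have hTm0 : ∀ x ∈ T', m0 * x * m0⁻¹ ∈ T' := by
    rintro _ ⟨a, b, rfl⟩
    have : m0 * (u 2 a * u 0 b) * m0⁻¹ = (m0 * u 2 a * m0⁻¹) * (m0 * u 0 b * m0⁻¹) := by group
    rw [this, c00, c02, hrel, ← hinv]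
    exact ⟨a, a * b⁻¹, by rw [hmul, mul_assoc]⟩
  have hTs : ∀ x ∈ T', (m2 * m0) * x * (m2 * m0)⁻¹ ∈ T' := by
    intro x hx
    have : (m2 * m0) * x * (m2 * m0)⁻¹ = m2 * (m0 * x * m0⁻¹) * m2⁻¹ := by group
    rw [this]; exact hTm2 _ (hTm0 _ hx)
  -- the normaliser of `T'`
  let N : Subgroup E := normalizer T'
  have hfin : ∀ g : E, (∀ x ∈ T', g * x * g⁻¹ ∈ T') → g ∈ N := by
    intro g hg
    rw [mem_normalizer_iff]
    intro x
    refine ⟨hg x, fun hx => ?_⟩
    have h1 : T'.map (MulAut.conj g).toMonoidHom ≤ T' := by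
      rintro _ ⟨y, hy, rfl⟩
      simpa [MulAut.conj_apply] using hg y hy
    have h2 : T'.map (MulAut.conj g).toMonoidHom = T' := by
      apply eq_of_le_of_card_ge h1
      rw [card_map_of_injective (MulAut.conj g).injective]
    have h3 : g * x * g⁻¹ ∈ T'.map (MulAut.conj g).toMonoidHom := by rw [h2]; exact hx
    obtain ⟨y, hy, e⟩ := h3
    have : y = x := by
      have e' : g * y * g⁻¹ = g * x * g⁻¹ := by simpa [MulAut.conj_apply] using e
      exact mul_left_cancel (mul_right_cancel e')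
    rwa [← this]
  have hsN : m2 * m0 ∈ N := hfin _ hTs
  have hcN : ∀ z ∈ p.ker, z ∈ N := by
    intro z hz
    apply hfin
    intro x hx
    rw [← mem_center_iff.1 (hker hz) x]
    simpa using hx
  have hTN : T' ≤ N := le_normalizer
  -- the preimage of the torus normaliser
  have hH : M.hsub.comap p ≤ T' ⊔ (zpowers (m2 * m0) ⊔ p.ker) := by
    intro x hx
    have h1 : M.hsub ≤ (T' ⊔ (zpowers (m2 * m0) ⊔ p.ker)).map p := by
      rw [hsub, ← hTp, Subgroup.map_sup, Subgroup.map_sup, MonoidHom.map_zpowers, map_mul, hm2, hm0]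
      exact sup_le le_sup_left (le_sup_of_le_right le_sup_left)
    obtain ⟨y, hy, e⟩ := h1 hx
    have h2 : x = y * (y⁻¹ * x) := by group
    rw [h2]
    refine mul_mem hy (mem_sup_right (mem_sup_right ?_))
    rw [MonoidHom.mem_ker, map_mul, map_inv, e, inv_mul_cancel]
  have hcommT : ⁅M.hsub.comap p, M.hsub.comap p⁆ ≤ T' := by
    -- work in `N`, mod `T'`
    let W : Subgroup E := T' ⊔ (zpowers (m2 * m0) ⊔ p.ker)
    have hWN : W ≤ N := sup_le hTN (sup_le (by rw [zpowers_le]; exact hsN) hcN)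
    have hWel : ∀ x ∈ W, ∃ k : ℤ, ∃ z ∈ p.ker, ∃ t ∈ T', x = t * ((m2 * m0) ^ k * z) := by
      intro x hx
      have hnn : (zpowers (m2 * m0) ⊔ p.ker) ≤ N := le_sup_right.trans hWN
      have h1 : x ∈ ((T' : Set E) * ((zpowers (m2 * m0) ⊔ p.ker : Subgroup E) : Set E)) := by
        rw [← coe_mul_of_right_le_normalizer_left T' _ hnn]
        exact hx
      obtain ⟨t, ht, y, hy, rfl⟩ := h1
      obtain ⟨w, hw, z, hz, rfl⟩ := mem_sup_of_normal_right.1 hy
      obtain ⟨k, rfl⟩ := mem_zpowers_iff.1 hw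
      exact ⟨k, z, hz, t, ht, rfl⟩
    rw [commutator_le]
    intro g₁ h₁ g₂ h₂
    obtain ⟨k₁, z₁, hz₁, t₁, ht₁, rfl⟩ := hWel g₁ (hH h₁)
    obtain ⟨k₂, z₂, hz₂, t₂, ht₂, rfl⟩ := hWel g₂ (hH h₂)
    set s := m2 * m0
    have hw : ∀ (k : ℤ) (z : E), z ∈ p.ker → s ^ k * z ∈ N := fun k z hz => mul_mem (zpow_mem hsN k) (hcN z hz)
    set w₁ := s ^ k₁ * z₁ with hw₁
    set w₂ := s ^ k₂ * z₂ with hw₂
    have hww : w₁ * w₂ = w₂ * w₁ := by
      have e1 : z₁ * s ^ k₂ = s ^ k₂ * z₁ := ((mem_center_iff.1 (hker hz₁)) _).symm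
      have e2 : z₂ * s ^ k₁ = s ^ k₁ * z₂ := ((mem_center_iff.1 (hker hz₂)) _).symm
      have e3 : z₁ * z₂ = z₂ * z₁ := ((mem_center_iff.1 (hker hz₁)) _).symm
      calc w₁ * w₂ = s ^ k₁ * (z₁ * s ^ k₂) * z₂ := by rw [hw₁, hw₂]; simp only [mul_assoc]
        _ = (s ^ k₁ * s ^ k₂) * (z₁ * z₂) := by rw [e1]; simp only [mul_assoc]
        _ = (s ^ k₂ * s ^ k₁) * (z₂ * z₁) := by rw [e3, ← zpow_add, ← zpow_add, add_comm]
        _ = s ^ k₂ * (s ^ k₁ * z₂) * z₁ := by simp only [mul_assoc]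
        _ = w₂ * w₁ := by rw [← e2, hw₁, hw₂]; simp only [mul_assoc]
    have hn₁ := hw k₁ z₁ hz₁
    have hn₂ := hw k₂ z₂ hz₂
    rw [← hw₁] at hn₁
    rw [← hw₂] at hn₂
    have key : ⁅t₁ * w₁, t₂ * w₂⁆ = t₁ * (w₁ * t₂ * w₁⁻¹) * (w₂ * t₁⁻¹ * w₂⁻¹) * t₂⁻¹ := by
      have e1 : w₁ * w₂ * w₁⁻¹ = w₂ := by rw [hww]; group
      have e2 : w₁ * w₂ * w₁⁻¹ * t₁⁻¹ * w₂⁻¹ = w₂ * t₁⁻¹ * w₂⁻¹ := by rw [e1]
      rw [commutatorElement_def]
      calc t₁ * w₁ * (t₂ * w₂) * (t₁ * w₁)⁻¹ * (t₂ * w₂)⁻¹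
          = t₁ * (w₁ * t₂ * w₁⁻¹) * (w₁ * w₂ * w₁⁻¹ * t₁⁻¹ * w₂⁻¹) * t₂⁻¹ := by group
        _ = _ := by rw [e2]
    rw [key]
    refine mul_mem (mul_mem (mul_mem ht₁ ?_) ?_) (inv_mem ht₂)
    · exact ((mem_normalizer_iff.1 hn₁) t₂).1 ht₂
    · exact ((mem_normalizer_iff.1 hn₂) _).1 (inv_mem ht₁)
  exact LThreeExt.ker_eq_bot p hp hE hker M.hsub hi2 T' hcommT hTX

end Tri

section Hom

variable {J S P C : Type*} [Group J] [Group S] [Group P] [CommGroup C]

theorem commutator_eq_top_iff {G : Type*} [Group G] : commutator G = ⊤ ↔ ⁅(⊤ : Subgroup G), (⊤ : Subgroup G)⁆ = ⊤ := by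
  rw [commutator_def]

theorem perfect_coe {G : Type*} [Group G] {D : Subgroup G} (h : ⁅D, D⁆ = D) : commutator D = ⊤ := by
  apply map_injective D.subtype_injective
  rw [commutator_def, map_commutator, ← MonoidHom.range_eq_map, range_subtype, h]

/-- **Lifting**: `π : J → P` a central extension of the right order, `ρ : S → P` surjective, `J`, `S` perfect; then there is
`φ : S → J` over `P`, and it is surjective. -/
theorem Tri.exists_hom [Finite J] [Finite S] [IsCyclic C] (M : Tri S C) (π : J →* P) (ρ : S →* P)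
    (hπ : Function.Surjective π) (hρ : Function.Surjective ρ)
    (hkπ : π.ker ≤ center J) (hJ : commutator J = ⊤) (hS : commutator S = ⊤)
    (hodd : ¬ 2 ∣ Nat.card π.ker)
    (hi1 : ∀ r : ℕ, r.Prime → r ∣ Nat.card π.ker → ∀ c, ¬ r ∣ (M.t c).range.relIndex (M.std c))
    (hi2 : ∀ r : ℕ, r.Prime → r ∣ Nat.card π.ker → ¬ r ∣ M.hsub.index) :
    ∃ φ : S →* J, Function.Surjective φ ∧ π.comp φ = ρ := by
  let Q : Subgroup (J × S) := (π.comp (MonoidHom.fst J S)).eqLocus (ρ.comp (MonoidHom.snd J S))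
  have hQ : ∀ x : J × S, x ∈ Q ↔ π x.1 = ρ x.2 := fun x => Iff.rfl
  let D : Subgroup (J × S) := ⁅Q, Q⁆
  have hQmap : Q.map (MonoidHom.snd J S) = ⊤ := by
    rw [eq_top_iff]
    intro s _
    obtain ⟨j, hj⟩ := hπ (ρ s)
    exact ⟨(j, s), hj, rfl⟩
  have hDmap : D.map (MonoidHom.snd J S) = ⊤ := by
    rw [map_commutator, hQmap, ← commutator_eq_top_iff]
    exact hS
  have hDQ : D ≤ Q := commutator_le_self _
  have hZ : Q ⊓ (MonoidHom.snd J S).ker ≤ center (J × S) := by
    rintro ⟨j, s⟩ ⟨h1, h2⟩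
    have h2' : s = 1 := h2
    subst h2'
    have h1' : π j = 1 := by
      have := (hQ _).1 h1
      simpa using this
    rw [mem_center_iff]
    rintro ⟨a, b⟩
    have := mem_center_iff.1 (hkπ (MonoidHom.mem_ker.2 h1')) a
    simp [this]
  have hQD : Q = D ⊔ (Q ⊓ (MonoidHom.snd J S).ker) := by
    apply le_antisymm
    · intro x hx
      have h1 : x.2 ∈ D.map (MonoidHom.snd J S) := by rw [hDmap]; exact mem_top _
      obtain ⟨d, hd, e⟩ := h1
      have h2 : x = d * (d⁻¹ * x) := by group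
      rw [h2]
      have e' : d.2 = x.2 := e
      refine mul_mem (mem_sup_left hd) (mem_sup_right ?_)
      refine mem_inf.2 ⟨mul_mem (inv_mem (hDQ hd)) hx, ?_⟩
      change (d⁻¹ * x).2 = 1
      simp [e']
    · exact sup_le hDQ inf_le_left
  have hDD : ⁅D, D⁆ = D := by
    conv_rhs => rw [show D = ⁅Q, Q⁆ from rfl, hQD, commutator_sup_central hZ]
  let p : D →* S := (MonoidHom.snd J S).comp D.subtype
  have hp : Function.Surjective p := by
    intro s
    have h1 : s ∈ D.map (MonoidHom.snd J S) := by rw [hDmap]; exact mem_top _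
    obtain ⟨d, hd, e⟩ := h1
    exact ⟨⟨d, hd⟩, e⟩
  have hpk : p.ker ≤ center D := by
    intro x hx
    rw [mem_center_iff]
    intro g
    have h1 : (x : J × S) ∈ center (J × S) := hZ ⟨hDQ x.2, hx⟩
    exact Subtype.ext (mem_center_iff.1 h1 g)
  have hcard : Nat.card p.ker ∣ Nat.card π.ker := by
    let g : p.ker →* π.ker := (((MonoidHom.fst J S).comp D.subtype).comp p.ker.subtype).codRestrict π.ker (by
      intro x
      have h1 : π (x : D).1.1 = ρ (x : D).1.2 := hDQ (x : D).2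
      have h2 : (x : D).1.2 = 1 := x.2
      rw [MonoidHom.mem_ker]
      change π (x : D).1.1 = 1
      rw [h1, h2, map_one])
    refine card_dvd_of_injective g (fun x y h => ?_)
    have h1 : (x : D).1.1 = (y : D).1.1 := congrArg Subtype.val h
    have h2 : (x : D).1.2 = 1 := x.2
    have h3 : (y : D).1.2 = 1 := y.2
    exact Subtype.ext (Subtype.ext (Prod.ext h1 (h2.trans h3.symm)))
  have hbot : p.ker = ⊥ := M.ker_eq_bot hp (perfect_coe hDD) hpk (fun h => hodd (h.trans hcard))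
    (fun r hr hd => hi1 r hr (hd.trans hcard)) (fun r hr hd => hi2 r hr (hd.trans hcard))
  let e : D ≃* S := MulEquiv.ofBijective p ⟨(MonoidHom.ker_eq_bot_iff p).1 hbot, hp⟩
  let φ : S →* J := ((MonoidHom.fst J S).comp D.subtype).comp e.symm.toMonoidHom
  have hφ : π.comp φ = ρ := by
    ext s
    have h1 : π (e.symm s : D).1.1 = ρ (e.symm s : D).1.2 := hDQ (e.symm s : D).2
    have h2 : (e.symm s : D).1.2 = s := e.apply_symm_apply s
    change π (e.symm s : D).1.1 = ρ s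
    rw [h1, h2]
  refine ⟨φ, ?_, hφ⟩
  have h1 : φ.range ⊔ π.ker = ⊤ := by
    rw [eq_top_iff]
    intro j _
    obtain ⟨s, hs⟩ := hρ (π j)
    have h2 : j = φ s * ((φ s)⁻¹ * j) := by group
    rw [h2]
    refine mul_mem (mem_sup_left ⟨s, rfl⟩) (mem_sup_right ?_)
    have h3 : π (φ s) = ρ s := DFunLike.congr_fun hφ s
    rw [MonoidHom.mem_ker, map_mul, map_inv, h3, hs, inv_mul_cancel]
  rw [← MonoidHom.range_eq_top, eq_top_iff, ← hJ, _root_.commutator_def, ← h1, commutator_sup_central hkπ]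
  exact commutator_le_self _

/-- two perfect subgroups with the same image modulo a central kernel are equal -/
theorem eq_of_map_eq {π : J →* P} (hkπ : π.ker ≤ center J) {A B : Subgroup J} (hA : ⁅A, A⁆ = A) (hB : ⁅B, B⁆ = B)
    (h : A.map π = B.map π) : A = B := by
  rw [eq_lift hkπ hA, h, ← eq_lift hkπ hB]

theorem perf_map {φ : S →* J} {A : Subgroup S} (hA : ⁅A, A⁆ = A) : ⁅A.map φ, A.map φ⁆ = A.map φ := by
  rw [← map_commutator, hA]

end Hom

end Cfsg.Agent.LThreeExt
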