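import Cfsg.Agent.LThreeExt.Abs

/-!
# The index conditions of `Tri.exists_hom` for a group of order `q³ (q-ε)² (q+ε) (q²+εq+1)`
-/

set_option autoImplicit false

namespace Cfsg.Agent.LThreeExt

open Subgroup
open scoped Pointwise

theorem num_one {q e : ℤ} (he : e = 1 ∨ e = -1) {r : ℕ} (hr : r.Prime) (h2 : r ≠ 2) (hd : (r : ℤ) ∣ q - e) :
    ¬ (r : ℤ) ∣ q * (q + e) := by
  have hp : Prime (r : ℤ) := Nat.prime_iff_prime_int.1 hr
  have he1 : ¬ (r : ℤ) ∣ e := by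
    rintro h
    rcases he with rfl | rfl
    · exact hp.not_isUnit (isUnit_of_dvd_one h)
    · exact hp.not_isUnit (isUnit_of_dvd_one ((dvd_neg (a := (r : ℤ)) (b := 1)).1 h))
  intro h
  rcases hp.dvd_or_dvd h with h | h
  · apply he1
    have := dvd_sub h hd
    simpa using this
  · have h3 := dvd_sub h hd
    have h4 : (r : ℤ) ∣ 2 * e := by
      have e1 : q + e - (q - e) = 2 * e := by ring
      rwa [e1] at h3
    rcases hp.dvd_or_dvd h4 with h5 | h5
    · apply h2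
      have h6 : r ∣ 2 := by exact_mod_cast h5
      exact (Nat.prime_dvd_prime_iff_eq hr Nat.prime_two).1 h6
    · exact he1 h5

theorem num_two {q e : ℤ} (he : e = 1 ∨ e = -1) {r : ℕ} (hr : r.Prime) (h2 : r ≠ 2) (hd : (r : ℤ) ∣ q - e)
    {i : ℤ} (hi : 3 * i = q ^ 3 * (q + e) * (q ^ 2 + e * q + 1)) : ¬ (r : ℤ) ∣ i := by
  have hp : Prime (r : ℤ) := Nat.prime_iff_prime_int.1 hr
  have h1 := num_one he hr h2 hd
  have hq : ¬ (r : ℤ) ∣ q := fun h => h1 (h.mul_right _)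
  have hqe : ¬ (r : ℤ) ∣ q + e := fun h => h1 (h.mul_left _)
  have he2 : e * e = 1 := by rcases he with rfl | rfl <;> norm_num
  obtain ⟨k, hk⟩ := hd
  have hq' : q = r * k + e := by linear_combination hk
  intro hri
  obtain ⟨j, rfl⟩ := hri
  have hA : ¬ (r : ℤ) ∣ q ^ 3 * (q + e) := by
    intro h
    rcases hp.dvd_or_dvd h with h | h
    · exact hq (hp.dvd_of_dvd_pow h)
    · exact hqe h
  by_cases h3 : r = 3
  · subst h3
    have hm : q ^ 2 + e * q + 1 = 3 * (3 * k ^ 2 + 3 * e * k + 1) := by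
      rw [hq']
      push_cast
      linear_combination 2 * he2
    rw [hm] at hi
    have h5 : 3 * j = q ^ 3 * (q + e) * (3 * k ^ 2 + 3 * e * k + 1) := by
      push_cast at hi
      linarith
    have h6 : ((3 : ℕ) : ℤ) ∣ q ^ 3 * (q + e) * (3 * k ^ 2 + 3 * e * k + 1) := ⟨j, by push_cast; exact h5.symm⟩
    rcases hp.dvd_or_dvd h6 with h | h
    · exact hA h
    · have h7 : ((3 : ℕ) : ℤ) ∣ 1 := by
        have h8 : ((3 : ℕ) : ℤ) ∣ 3 * k ^ 2 + 3 * e * k := ⟨k ^ 2 + e * k, by push_cast; ring⟩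
        have := dvd_sub h h8
        have e1 : 3 * k ^ 2 + 3 * e * k + 1 - (3 * k ^ 2 + 3 * e * k) = 1 := by ring
        rwa [e1] at this
      exact hp.not_isUnit (isUnit_of_dvd_one h7)
  · have h6 : (r : ℤ) ∣ q ^ 3 * (q + e) * (q ^ 2 + e * q + 1) := ⟨3 * j, by rw [← hi]; ring⟩
    rcases hp.dvd_or_dvd h6 with h | h
    · exact hA h
    · have h7 : (r : ℤ) ∣ 3 := by
        have h8 : (r : ℤ) ∣ r * (r * k ^ 2 + 3 * e * k) := dvd_mul_right _ _
        have := dvd_sub h h8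
        have e1 : q ^ 2 + e * q + 1 - r * (r * k ^ 2 + 3 * e * k) = 3 := by
          rw [hq']; linear_combination 2 * he2
        rwa [e1] at this
      have h9 : r ∣ 3 := by exact_mod_cast h7
      exact h3 ((Nat.prime_dvd_prime_iff_eq hr Nat.prime_three).1 h9)

namespace Tri

variable {J S P C : Type*} [Group J] [Group S] [Group P] [CommGroup C] (M : Tri S C)

theorem conj2 (a b : C) : M.n2 * M.tor (a, b) * M.n2⁻¹ = M.tor (a⁻¹ * b, b) := by
  change M.n2 * (M.t 2 a * M.t 0 b) * M.n2⁻¹ = M.t 2 (a⁻¹ * b) * M.t 0 b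
  have : M.n2 * (M.t 2 a * M.t 0 b) * M.n2⁻¹ = (M.n2 * M.t 2 a * M.n2⁻¹) * (M.n2 * M.t 0 b * M.n2⁻¹) := by group
  rw [this, M.n2_t2, M.n2_t0, M.t_mul, map_mul, mul_assoc]

theorem conj0 (a b : C) : M.n0 * M.tor (a, b) * M.n0⁻¹ = M.tor (a, a * b⁻¹) := by
  change M.n0 * (M.t 2 a * M.t 0 b) * M.n0⁻¹ = M.t 2 a * M.t 0 (a * b⁻¹)
  have : M.n0 * (M.t 2 a * M.t 0 b) * M.n0⁻¹ = (M.n0 * M.t 2 a * M.n0⁻¹) * (M.n0 * M.t 0 b * M.n0⁻¹) := by group
  rw [this, M.n0_t2, M.n0_t0, M.t_mul, map_mul, mul_assoc]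

theorem conjs (a b : C) : (M.n2 * M.n0) * M.tor (a, b) * (M.n2 * M.n0)⁻¹ = M.tor (b⁻¹, a * b⁻¹) := by
  have : (M.n2 * M.n0) * M.tor (a, b) * (M.n2 * M.n0)⁻¹ = M.n2 * (M.n0 * M.tor (a, b) * M.n0⁻¹) * M.n2⁻¹ := by group
  rw [this, conj0, conj2]
  congr 2
  group

theorem conjs' (a b : C) : (M.n2 * M.n0)⁻¹ * M.tor (a, b) * (M.n2 * M.n0) = M.tor (a⁻¹ * b, a⁻¹) := by
  have h := M.conjs (a⁻¹ * b) a⁻¹
  have e : M.tor ((a⁻¹)⁻¹, a⁻¹ * b * (a⁻¹)⁻¹) = M.tor (a, b) := by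
    congr 2
    · simp
    · rw [inv_inv, mul_comm a⁻¹ b, mul_assoc, inv_mul_cancel, mul_one]
  rw [e] at h
  rw [← h]; group

theorem s_mem_normalizer : M.n2 * M.n0 ∈ normalizer (M.tor.range : Set S) := by
  rw [mem_normalizer_iff]
  intro x
  constructor
  · rintro ⟨⟨a, b⟩, rfl⟩
    rw [conjs]; exact ⟨_, rfl⟩
  · rintro ⟨⟨a, b⟩, h⟩
    have : x = (M.n2 * M.n0)⁻¹ * M.tor (a, b) * (M.n2 * M.n0) := by rw [h]; group
    rw [this, conjs']; exact ⟨_, rfl⟩

theorem card_hsub [Finite C] (h3 : (M.n2 * M.n0) ^ 3 = 1) (hn : M.n2 * M.n0 ∉ M.tor.range) :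
    Nat.card M.hsub = 3 * Nat.card C ^ 2 := by
  set s := M.n2 * M.n0 with hs
  have hsn : s ≠ 1 := fun h => hn (by rw [h]; exact one_mem _)
  have hord : orderOf s = 3 := orderOf_eq_prime h3 hsn
  have hz : Nat.card (zpowers s) = 3 := by rw [Nat.card_zpowers, hord]
  have hT : Nat.card M.tor.range = Nat.card C ^ 2 := by
    rw [← Nat.card_congr (MonoidHom.ofInjective M.tor_inj).toEquiv, Nat.card_prod, sq]
  have hdisj : ∀ x, x ∈ M.tor.range → x ∈ zpowers s → x = 1 := by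
    intro x h1 h2
    by_contra hx
    have h4 : orderOf x = 3 := by
      have h5 : orderOf x ∣ 3 := by
        rw [← hz]; exact (zpowers s).orderOf_dvd_natCard h2
      exact ((Nat.dvd_prime Nat.prime_three).1 h5).resolve_left (fun h => hx (orderOf_eq_one_iff.1 h))
    have h5 : zpowers x ≤ zpowers s := by rw [zpowers_le]; exact h2
    have h6 : zpowers x = zpowers s := by
      have : Finite (zpowers s) := Nat.finite_of_card_ne_zero (by rw [hz]; norm_num)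
      apply eq_of_le_of_card_ge h5
      rw [hz, Nat.card_zpowers, h4]
    have h7 : s ∈ zpowers x := by rw [h6]; exact mem_zpowers s
    have h8 : zpowers x ≤ M.tor.range := by rw [zpowers_le]; exact h1
    exact hn (h8 h7)
  have hle : (zpowers s) ≤ normalizer (M.tor.range : Set S) := by
    rw [zpowers_le]; exact M.s_mem_normalizer
  let f : M.tor.range × zpowers s → M.hsub := fun x =>
    ⟨x.1.1 * x.2.1, mul_mem (mem_sup_left x.1.2) (mem_sup_right x.2.2)⟩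
  have hf : Function.Bijective f := by
    constructor
    · rintro ⟨⟨x, hx⟩, ⟨y, hy⟩⟩ ⟨⟨x', hx'⟩, ⟨y', hy'⟩⟩ h
      have h1 : x * y = x' * y' := congrArg Subtype.val h
      have h2 : x'⁻¹ * x = y' * y⁻¹ := by
        rw [inv_mul_eq_iff_eq_mul, ← mul_assoc, ← h1, mul_assoc, mul_inv_cancel, mul_one]
      have h3 : x'⁻¹ * x = 1 := hdisj _ (mul_mem (inv_mem hx') hx) (by rw [h2]; exact mul_mem hy' (inv_mem hy))
      have h4 : x = x' := (inv_mul_eq_one.1 h3).symm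
      subst h4
      have h5 : y = y' := mul_left_cancel h1
      subst h5
      rfl
    · rintro ⟨x, hx⟩
      have h1 : x ∈ ((M.tor.range : Set S) * ((zpowers s : Subgroup S) : Set S)) := by
        rw [← coe_mul_of_right_le_normalizer_left _ _ hle]
        exact hx
      obtain ⟨t, ht, y, hy, rfl⟩ := h1
      exact ⟨(⟨t, ht⟩, ⟨y, hy⟩), rfl⟩
  rw [← Nat.card_congr (Equiv.ofBijective f hf), Nat.card_prod, hT, hz, mul_comm]

/-- numerical data: `|C| = q - ε`, `|std c| = q (q-ε)(q+ε)`, `|S| = q³ (q-ε)² (q+ε)(q²+εq+1)`. -/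
structure NumData (q e : ℤ) : Prop where
  sign : e = 1 ∨ e = -1
  cardC : (Nat.card C : ℤ) = q - e
  pos : 0 < q - e
  cardStd : ∀ c, (Nat.card (M.std c) : ℤ) = q * (q - e) * (q + e)
  cardS : (Nat.card S : ℤ) = q ^ 3 * (q - e) ^ 2 * (q + e) * (q ^ 2 + e * q + 1)
  inj : ∀ c, Function.Injective (M.t c)
  s3 : (M.n2 * M.n0) ^ 3 = 1
  sn : M.n2 * M.n0 ∉ M.tor.range

variable {M} {q e : ℤ}

theorem NumData.finite (h : M.NumData q e) : Finite C := by
  apply Nat.finite_of_card_ne_zero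
  intro h0
  have := h.cardC
  rw [h0] at this
  have h1 := h.pos
  simp at this
  omega

theorem NumData.index1 (h : M.NumData q e) {r : ℕ} (hr : r.Prime) (h2 : r ≠ 2) (hd : (r : ℤ) ∣ q - e) (c : Fin 3) :
    ¬ r ∣ (M.t c).range.relIndex (M.std c) := by
  have hfin := h.finite
  intro hri
  have hle : (M.t c).range ≤ M.std c := by rintro _ ⟨a, rfl⟩; exact M.t_mem c a
  have h1 : (M.t c).range.relIndex (M.std c) * Nat.card (M.t c).range = Nat.card (M.std c) := by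
    have h3 := ((M.t c).range.subgroupOf (M.std c)).index_mul_card
    rw [Nat.card_congr (subgroupOfEquivOfLe hle).toEquiv] at h3
    exact h3
  rw [← Nat.card_congr (MonoidHom.ofInjective (h.inj c)).toEquiv] at h1
  have h3 : (((M.t c).range.relIndex (M.std c) : ℕ) : ℤ) * (q - e) = q * (q - e) * (q + e) := by
    rw [← h.cardStd c, ← h.cardC, ← h1]; push_cast; ring
  have h4 : (((M.t c).range.relIndex (M.std c) : ℕ) : ℤ) = q * (q + e) := by
    have h5 : (q - e) ≠ 0 := h.pos.ne'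
    apply mul_right_cancel₀ h5
    linear_combination h3
  apply num_one h.sign hr h2 hd
  rw [← h4]
  exact_mod_cast hri

theorem NumData.index2 (h : M.NumData q e) {r : ℕ} (hr : r.Prime) (h2 : r ≠ 2) (hd : (r : ℤ) ∣ q - e) :
    ¬ r ∣ M.hsub.index := by
  have hfin := h.finite
  intro hri
  have h1 : M.hsub.index * Nat.card M.hsub = Nat.card S := M.hsub.index_mul_card
  rw [M.card_hsub h.s3 h.sn] at h1
  have h3 : ((M.hsub.index : ℕ) : ℤ) * (3 * (q - e) ^ 2) = q ^ 3 * (q - e) ^ 2 * (q + e) * (q ^ 2 + e * q + 1) := by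
    rw [← h.cardS, ← h.cardC, ← h1]; push_cast; ring
  have h4 : 3 * ((M.hsub.index : ℕ) : ℤ) = q ^ 3 * (q + e) * (q ^ 2 + e * q + 1) := by
    have h5 : (q - e) ^ 2 ≠ 0 := pow_ne_zero _ h.pos.ne'
    apply mul_right_cancel₀ h5
    linear_combination h3
  apply num_two h.sign hr h2 hd h4
  exact_mod_cast hri

/-- **The lifting theorem** for a `Tri` with the right orders. -/
theorem NumData.exists_hom (h : M.NumData q e) [Finite J] [Finite S] [IsCyclic C] (π : J →* P) (ρ : S →* P)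
    (hπ : Function.Surjective π) (hρ : Function.Surjective ρ)
    (hkπ : π.ker ≤ center J) (hJ : commutator J = ⊤) (hS : commutator S = ⊤)
    (hr : ∀ r : ℕ, r.Prime → r ∣ Nat.card π.ker → r ≠ 2 ∧ (r : ℤ) ∣ q - e) :
    ∃ φ : S →* J, Function.Surjective φ ∧ π.comp φ = ρ ∧
      ∀ c, ∀ A : Subgroup J, ⁅A, A⁆ = A → A.map π = (M.std c).map ρ → (M.std c).map φ = A := by
  obtain ⟨φ, h1, h2⟩ := M.exists_hom π ρ hπ hρ hkπ hJ hS (fun h2 => (hr 2 Nat.prime_two h2).1 rfl)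
    (fun r hp hd c => h.index1 hp (hr r hp hd).1 (hr r hp hd).2 c)
    (fun r hp hd => h.index2 hp (hr r hp hd).1 (hr r hp hd).2)
  refine ⟨φ, h1, h2, fun c A hA hAm => ?_⟩
  apply eq_of_map_eq hkπ (perf_map (M.perf c)) hA
  rw [hAm, map_map, h2]

end Tri

end Cfsg.Agent.LThreeExt
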